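import Mathlib.RingTheory.Etale.StandardEtale
import Mathlib.RingTheory.AdjoinRoot
import Mathlib.RingTheory.Etale.Locus
import Mathlib.RingTheory.Localization.Away.Basic
import Groth.Agent.CAlg4.ReducedCurve

/-! The cyclic cover `⊕_i J_i θ^i` attached to a rational function that is locally an `s`-th power. -/

set_option autoImplicit false
set_option linter.style.haveILetI false
set_option linter.unusedSectionVars false

noncomputable section

universe u

open Polynomial

namespace Groth.Agent.ClTors18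

variable {B : Type u} [CommRing B] [IsDomain B] [IsNoetherianRing B] [IsIntegrallyClosed B]
  (K : Type u) [Field K] [Algebra B K] [IsFractionRing B K]

/-- The elements of `K` in `B`. -/
def InB (x : K) : Prop := x ∈ (algebraMap B K).range

variable {K}

theorem inB_of_pow {s : ℕ} (hs : 0 < s) {a : K} (h : InB (B := B) K (a ^ s)) : InB (B := B) K a :=
  IsIntegrallyClosed.isIntegral_iff.mp (IsIntegral.of_pow hs (by
    obtain ⟨b, hb⟩ := h
    exact hb ▸ isIntegral_algebraMap))

theorem inB_add_pow {s : ℕ} (hs : 0 < s) {a b m : K} (ha : InB (B := B) K (a ^ s * m))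
    (hb : InB (B := B) K (b ^ s * m)) : InB (B := B) K ((a + b) ^ s * m) := by
  rw [InB, add_pow, Finset.sum_mul]
  refine sum_mem fun j hj => ?_
  have hj' : j ≤ s := Nat.lt_succ_iff.1 (Finset.mem_range.1 hj)
  have h1 : InB (B := B) K (a ^ j * b ^ (s - j) * m) := by
    refine inB_of_pow hs ?_
    have e : (a ^ j * b ^ (s - j) * m) ^ s = (a ^ s * m) ^ j * (b ^ s * m) ^ (s - j) := by
      obtain ⟨d, rfl⟩ := Nat.exists_eq_add_of_le hj'
      rw [Nat.add_sub_cancel_left]
      ring
    rw [InB, e]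
    exact mul_mem (pow_mem ha _) (pow_mem hb _)
  have e2 : a ^ j * b ^ (s - j) * (s.choose j : K) * m =
      (s.choose j : K) * (a ^ j * b ^ (s - j) * m) := by ring
  rw [e2]
  exact mul_mem (natCast_mem _ _) h1

/-- `z` lies in `B[1/c]`. -/
def InLoc (c : B) (z : K) : Prop := ∃ N : ℕ, InB (B := B) K (algebraMap B K c ^ N * z)

theorem InLoc.of_inB {c : B} {z : K} (h : InB (B := B) K z) : InLoc c z := ⟨0, by simpa using h⟩

theorem InLoc.mul {c : B} {z w : K} (h : InLoc c z) (h' : InLoc c w) : InLoc c (z * w) := by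
  obtain ⟨N, hN⟩ := h
  obtain ⟨M, hM⟩ := h'
  refine ⟨N + M, ?_⟩
  rw [InB, show algebraMap B K c ^ (N + M) * (z * w) =
    (algebraMap B K c ^ N * z) * (algebraMap B K c ^ M * w) by rw [pow_add]; ring]
  exact mul_mem hN hM

theorem InLoc.pow {c : B} {z : K} (h : InLoc c z) : ∀ n : ℕ, InLoc c (z ^ n)
  | 0 => .of_inB (by rw [InB, pow_zero]; exact one_mem _)
  | n + 1 => by rw [pow_succ]; exact (h.pow n).mul h

theorem InLoc.of_pow {c : B} {z : K} {s : ℕ} (hs : 0 < s) (h : InLoc c (z ^ s)) : InLoc c z := by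
  obtain ⟨N, hN⟩ := h
  refine ⟨N, inB_of_pow hs ?_⟩
  obtain ⟨d, hd⟩ : ∃ d, s = d + 1 := ⟨s - 1, by omega⟩
  rw [InB, show (algebraMap B K c ^ N * z) ^ s =
    (algebraMap B K c ^ N) ^ d * (algebraMap B K c ^ N * z ^ s) by rw [hd]; ring]
  exact mul_mem (pow_mem (pow_mem (RingHom.mem_range_self (algebraMap B K) c) _) _) hN

section cover

variable {s : ℕ} (hs : 0 < s) (g : K)

/-- The coefficient module in degree `i`. -/
def J (hs : 0 < s) (g : K) (i : ℕ) : Submodule B K where
  carrier := {a | InB (B := B) K (a ^ s * g ^ i)}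
  zero_mem' := by
    show InB (B := B) K _
    rw [zero_pow hs.ne', zero_mul]
    exact zero_mem _
  add_mem' ha hb := inB_add_pow hs ha hb
  smul_mem' r a ha := by
    show InB (B := B) K ((r • a) ^ s * g ^ i)
    rw [Algebra.smul_def, InB, mul_pow, mul_assoc]
    exact mul_mem (pow_mem (RingHom.mem_range_self (algebraMap B K) r) _) ha

theorem mem_J {i : ℕ} {a : K} : a ∈ J (B := B) hs g i ↔ InB (B := B) K (a ^ s * g ^ i) := Iff.rfl

theorem J_mul {i j : ℕ} {a b : K} (ha : a ∈ J (B := B) hs g i) (hb : b ∈ J (B := B) hs g j) :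
    a * b ∈ J (B := B) hs g (i + j) := by
  show InB (B := B) K _
  rw [InB, show (a * b) ^ s * g ^ (i + j) = (a ^ s * g ^ i) * (b ^ s * g ^ j) by
    rw [mul_pow, pow_add]; ring]
  exact mul_mem ha hb

theorem J_shift {i : ℕ} {a : K} (ha : a ∈ J (B := B) hs g (i + s)) :
    a * g ∈ J (B := B) hs g i := by
  show InB (B := B) K _
  rwa [show (a * g) ^ s * g ^ i = a ^ s * g ^ (i + s) by rw [mul_pow, pow_add]; ring]

theorem J_saturated {i : ℕ} {a : K} (S : Set B)
    (hS : ∀ q : Ideal B, q.IsPrime → q.height = 1 → ∃ c ∈ S, c ∉ q)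
    (h : ∀ c ∈ S, algebraMap B K c * a ∈ J (B := B) hs g i) : a ∈ J (B := B) hs g i := by
  obtain ⟨p, q, hq, hpq⟩ := IsFractionRing.div_surjective B (a ^ s * g ^ i)
  show InB (B := B) K _
  have hq0 : q ≠ 0 := nonZeroDivisors.ne_zero hq
  have hdvd : q ∣ p := by
    refine CAlg4.ReducedCurve.dvd_of_forall_height_one q p hq0 fun P _ hP _ => ?_
    obtain ⟨c, hc, hcP⟩ := hS P inferInstance hP
    obtain ⟨e, he⟩ := h c hc
    have e1 : c ^ s * p = q * e := IsFractionRing.injective B K (by
      rw [map_mul, map_pow, map_mul, he, mul_pow, mul_assoc, ← hpq]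
      have : algebraMap B K q ≠ 0 := (map_ne_zero_iff _ (IsFractionRing.injective B K)).2 hq0
      field_simp)
    have hu : IsUnit (algebraMap B (Localization.AtPrime P) c ^ s) :=
      (IsLocalization.map_units (Localization.AtPrime P) (⟨c, hcP⟩ : P.primeCompl)).pow s
    exact (hu.dvd_mul_left).1 (by rw [← map_pow, ← map_mul, e1, map_mul]; exact dvd_mul_right _ _)
  obtain ⟨e, rfl⟩ := hdvd
  refine ⟨e, ?_⟩
  rw [← hpq, map_mul, mul_div_cancel_left₀]
  exact (map_ne_zero_iff _ (IsFractionRing.injective B K)).2 hq0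

theorem finite_J (hg : g ≠ 0) (i : ℕ) : Module.Finite B (J (B := B) hs g i) := by
  obtain ⟨n, d, hd, hgnd⟩ := IsFractionRing.div_surjective B g
  have hdK : algebraMap B K d ≠ 0 :=
    (map_ne_zero_iff _ (IsFractionRing.injective B K)).2 (nonZeroDivisors.ne_zero hd)
  have hnK : algebraMap B K n ≠ 0 := fun h => hg (by rw [← hgnd, h, zero_div])
  let l : K →ₗ[B] K := LinearMap.mulRight B (algebraMap B K n ^ i)
  have hl : ∀ a : J (B := B) hs g i, l a ∈ (Algebra.linearMap B K).range := fun a => by
    obtain ⟨e, he⟩ := inB_of_pow (B := B) hs (a := l a) (by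
      obtain ⟨d', rfl⟩ : ∃ d', s = d' + 1 := ⟨s - 1, by omega⟩
      rw [InB, show (l a) ^ (d' + 1) = ((a : K) ^ (d' + 1) * g ^ i) *
          (algebraMap B K d ^ i * (algebraMap B K n ^ i) ^ d') by
        show ((a : K) * algebraMap B K n ^ i) ^ (d' + 1) = _
        have hg' : g ^ i * algebraMap B K d ^ i = algebraMap B K n ^ i := by
          rw [← mul_pow, ← hgnd, div_mul_cancel₀ _ hdK]
        linear_combination (-((a : K) ^ (d' + 1) * (algebraMap B K n ^ i) ^ d')) * hg']
      exact mul_mem a.2 (mul_mem (pow_mem (RingHom.mem_range_self (algebraMap B K) d) _) (pow_mem (pow_mem (RingHom.mem_range_self (algebraMap B K) n) _) _)))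
    exact ⟨e, he⟩
  let φ : J (B := B) hs g i →ₗ[B] B :=
    (LinearEquiv.ofInjective (Algebra.linearMap B K) (IsFractionRing.injective B K)).symm.toLinearMap.comp
      ((l.comp (Submodule.subtype _)).codRestrict _ hl)
  refine Module.Finite.of_injective φ fun a b h => ?_
  have := congrArg Subtype.val ((LinearEquiv.ofInjective (Algebra.linearMap B K)
    (IsFractionRing.injective B K)).symm.injective h)
  exact Subtype.ext (mul_right_cancel₀ (pow_ne_zero i hnK) this)

/-- The ambient étale algebra. -/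
abbrev Amb (g : K) (s : ℕ) : Type u := AdjoinRoot (X ^ s - C g : K[X])

theorem monicAmb (hs : 0 < s) (g : K) : (X ^ s - C g : K[X]).Monic := monic_X_pow_sub_C g hs.ne'

/-- Coordinates in the power basis. -/
def co (hs : 0 < s) (g : K) (i : ℕ) : Amb g s →ₗ[K] K :=
  (lcoeff K i).comp (AdjoinRoot.modByMonicHom (monicAmb hs g))

theorem natDeg_mod (z : Amb g s) : (AdjoinRoot.modByMonicHom (monicAmb hs g) z).natDegree < s := by
  induction z using AdjoinRoot.induction_on with
  | ih p =>
    rw [AdjoinRoot.modByMonicHom_mk]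
    have := natDegree_modByMonic_lt p (monicAmb hs g) (fun h => by
      have := congrArg natDegree h
      rw [natDegree_X_pow_sub_C, natDegree_one] at this
      omega)
    rwa [natDegree_X_pow_sub_C] at this

theorem co_eq_zero {i : ℕ} (hi : s ≤ i) (z : Amb g s) : co hs g i z = 0 :=
  coeff_eq_zero_of_natDegree_lt ((natDeg_mod hs g z).trans_le hi)

theorem sum_co (z : Amb g s) :
    z = ∑ i ∈ Finset.range s, co hs g i z • AdjoinRoot.root (X ^ s - C g) ^ i := by
  conv_lhs => rw [← AdjoinRoot.mk_leftInverse (monicAmb hs g) z,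
    as_sum_range' _ s (natDeg_mod hs g z)]
  rw [map_sum]
  refine Finset.sum_congr rfl fun i _ => ?_
  rw [← C_mul_X_pow_eq_monomial, map_mul, map_pow, AdjoinRoot.mk_X, AdjoinRoot.mk_C,
    Algebra.smul_def]
  rfl

theorem co_smul_root_pow {i j : ℕ} (hj : j < s) (a : K) :
    co hs g i (a • AdjoinRoot.root (X ^ s - C g) ^ j) = if j = i then a else 0 := by
  rw [map_smul, ← AdjoinRoot.mk_X, ← map_pow]
  show a * ((AdjoinRoot.modByMonicHom (monicAmb hs g)) _).coeff i = _
  rw [AdjoinRoot.modByMonicHom_mk, modByMonic_eq_self_iff (monicAmb hs g) |>.2 (by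
    rw [degree_X_pow, degree_X_pow_sub_C hs]
    exact_mod_cast hj), coeff_X_pow]
  split_ifs with h1 h2 h2
  · rw [mul_one]
  · exact absurd h1.symm h2
  · exact absurd h2.symm h1
  · rw [mul_zero]

/-- Membership in the cover. -/
def InC (hs : 0 < s) (g : K) (z : Amb g s) : Prop := ∀ i < s, co hs g i z ∈ J (B := B) hs g i

theorem inC_add {z w : Amb g s} (hz : InC (B := B) hs g z) (hw : InC (B := B) hs g w) :
    InC (B := B) hs g (z + w) := fun i hi => by rw [map_add]; exact add_mem (hz i hi) (hw i hi)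

theorem inC_zero : InC (B := B) hs g (0 : Amb g s) := fun i _ => by rw [map_zero]; exact zero_mem _

theorem inC_sum {ι : Type*} (t : Finset ι) (f : ι → Amb g s)
    (h : ∀ x ∈ t, InC (B := B) hs g (f x)) : InC (B := B) hs g (∑ x ∈ t, f x) := fun i hi => by
  rw [map_sum]
  exact sum_mem fun x hx => h x hx i hi

theorem root_pow_s : AdjoinRoot.root (X ^ s - C g : K[X]) ^ s = algebraMap K (Amb g s) g := by
  have h := AdjoinRoot.eval₂_root (X ^ s - C g : K[X])
  rw [eval₂_sub, eval₂_pow, eval₂_X, eval₂_C, sub_eq_zero] at h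
  exact h

theorem inC_monomial : ∀ {i : ℕ} {a : K}, a ∈ J (B := B) hs g i →
    InC (B := B) hs g (a • AdjoinRoot.root (X ^ s - C g) ^ i) := by
  intro i
  induction i using Nat.strong_induction_on with
  | _ i ih =>
    intro a ha
    by_cases hi : i < s
    · intro j _
      rw [co_smul_root_pow hs g hi]
      split_ifs with h
      · exact h ▸ ha
      · exact zero_mem _
    · obtain ⟨k, rfl⟩ : ∃ k, i = k + s := ⟨i - s, by omega⟩
      rw [pow_add, root_pow_s, Algebra.smul_def, ← mul_assoc, mul_comm, ← mul_assoc, ← map_mul,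
        mul_comm g, ← Algebra.smul_def]
      exact ih k (by omega) (J_shift hs g ha)

theorem inC_algebraMap (b : B) : InC (B := B) hs g (algebraMap B (Amb g s) b) := by
  rw [IsScalarTower.algebraMap_apply B K (Amb g s), Algebra.algebraMap_eq_smul_one,
    ← pow_zero (AdjoinRoot.root (X ^ s - C g))]
  refine inC_monomial hs g ?_
  show InB (B := B) K _
  rw [InB, pow_zero, mul_one]
  exact pow_mem (RingHom.mem_range_self (algebraMap B K) b) _

theorem inC_mul {z w : Amb g s} (hz : InC (B := B) hs g z) (hw : InC (B := B) hs g w) :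
    InC (B := B) hs g (z * w) := by
  rw [sum_co hs g z, sum_co hs g w, Finset.sum_mul_sum]
  refine inC_sum hs g _ _ fun i hi => inC_sum hs g _ _ fun j hj => ?_
  rw [smul_mul_smul_comm, ← pow_add]
  exact inC_monomial hs g (J_mul hs g (hz i (Finset.mem_range.1 hi)) (hw j (Finset.mem_range.1 hj)))

/-- The cyclic cover. -/
def Cov (hs : 0 < s) (g : K) : Subalgebra B (Amb g s) where
  carrier := {z | InC (B := B) hs g z}
  mul_mem' := inC_mul hs g
  one_mem' := by
    show InC (B := B) hs g 1
    rw [← map_one (algebraMap B (Amb g s))]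
    exact inC_algebraMap hs g 1
  add_mem' := inC_add hs g
  zero_mem' := inC_zero hs g
  algebraMap_mem' := inC_algebraMap hs g

theorem mem_cov {z : Amb g s} : z ∈ Cov (B := B) hs g ↔ InC (B := B) hs g z := Iff.rfl

theorem co_smul_B (i : ℕ) (r : B) (z : Amb g s) :
    co hs g i (r • z) = algebraMap B K r * co hs g i z := by
  rw [← algebraMap_smul K r z, map_smul, smul_eq_mul]

/-- The cover as coordinates. -/
def covCoord : Cov (B := B) hs g →ₗ[B] (∀ i : Fin s, J (B := B) hs g (i : ℕ)) where
  toFun z i := ⟨co hs g i z.1, z.2 i i.2⟩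
  map_add' z w := funext fun i => Subtype.ext (map_add _ _ _)
  map_smul' r z := funext fun i => Subtype.ext ((co_smul_B hs g i r z.1).trans (Algebra.smul_def r _).symm)

theorem covCoord_injective : Function.Injective (covCoord (B := B) hs g) := fun z w h => by
  refine Subtype.ext ?_
  rw [sum_co hs g z.1, sum_co hs g w.1]
  exact Finset.sum_congr rfl fun i hi => by
    rw [show co hs g i z.1 = co hs g i w.1 from
      congrArg Subtype.val (congrFun h ⟨i, Finset.mem_range.1 hi⟩)]

theorem finite_cov (hg : g ≠ 0) : Module.Finite B (Cov (B := B) hs g) := by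
  haveI : ∀ i : Fin s, Module.Finite B (J (B := B) hs g (i : ℕ)) := fun i => finite_J hs g hg i
  exact Module.Finite.of_injective _ (covCoord_injective hs g)

theorem smul_injective_amb {r : B} (hr : r ≠ 0) {z : Amb g s} (h : r • z = 0) : z = 0 := by
  rw [← algebraMap_smul K r z, smul_eq_zero] at h
  exact h.resolve_left ((map_ne_zero_iff _ (IsFractionRing.injective B K)).2 hr)

theorem cov_saturated {z : Amb g s} (S : Set B)
    (hS : ∀ q : Ideal B, q.IsPrime → q.height = 1 → ∃ c ∈ S, c ∉ q)
    (h : ∀ c ∈ S, c • z ∈ Cov (B := B) hs g) : z ∈ Cov (B := B) hs g := fun i hi =>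
  J_saturated hs g S hS fun c hc => by rw [← co_smul_B]; exact h c hc i hi

/-- The degree-one part of the cover. -/
theorem exists_degree_one (h1 : 1 < s) :
    ∃ (ι : J (B := B) hs g 1 →ₗ[B] Cov (B := B) hs g) (π : Cov (B := B) hs g →ₗ[B] J (B := B) hs g 1),
      π.comp ι = LinearMap.id := by
  refine ⟨{ toFun := fun a => ⟨(a : K) • AdjoinRoot.root (X ^ s - C g) ^ 1, inC_monomial hs g a.2⟩
            map_add' := fun a b => Subtype.ext (add_smul _ _ _)
            map_smul' := fun r a => Subtype.ext (smul_assoc r (a : K) _) },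
    { toFun := fun z => ⟨co hs g 1 z.1, z.2 1 h1⟩
      map_add' := fun z w => Subtype.ext (map_add _ _ _)
      map_smul' := fun r z => Subtype.ext ((co_smul_B hs g 1 r z.1).trans (Algebra.smul_def r _).symm) },
    LinearMap.ext fun a => Subtype.ext ?_⟩
  exact (co_smul_root_pow hs g h1 (a : K)).trans (if_pos rfl)

end cover

end Groth.Agent.ClTors18
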