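import Groth.Agent.Pure83.AlgebraiseScheme
import Groth.Agent.FEt83.AffineEquiv
import Groth.Agent.FEt83.DepthSections
import Groth.Agent.Pure83.Scheme

/-! Purity makes a finite glued algebra, étale on the punctured spectrum, flat. -/

set_option autoImplicit false
set_option linter.style.haveILetI false
set_option maxHeartbeats 800000
set_option backward.isDefEq.respectTransparency.types false

noncomputable section

universe u

open CategoryTheory Limits AlgebraicGeometry TopologicalSpace Opposite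

namespace Groth.Agent.ClTors18

variable {B : Type u} [CommRing B] [IsLocalRing B] [IsNoetherianRing B] [IsDomain B]

/-- Global sections along an open immersion into an affine scheme, compared at a basic open. -/
theorem exists_sec_mul {C : CommRingCat.{u}} {P : Scheme.{u}} [CompactSpace P]
    (j : P ⟶ Spec C) [IsOpenImmersion j] {c : C}
    (hc : PrimeSpectrum.basicOpen c ≤ j.opensRange) (y : Γ(P, ⊤)) :
    ∃ (k : ℕ) (x : C), j.appTop ((Scheme.ΓSpecIso C).inv x) =
      (j.appTop ((Scheme.ΓSpecIso C).inv c)) ^ k * y := by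
  let σ := (Scheme.ΓSpecIso C).inv
  let D : (Spec C).Opens := PrimeSpectrum.basicOpen c
  haveI : IsIso (j.app D) := j.isIso_app D hc
  obtain ⟨z, hz⟩ := (ConcreteCategory.bijective_of_isIso (j.app D)).2
    (P.presheaf.map (homOfLE (le_top : j ⁻¹ᵁ D ≤ ⊤)).op y)
  have hD : D = (Spec C).basicOpen (σ c) := (basicOpen_eq_of_affine c).symm
  haveI : IsLocalization.Away c Γ(Spec C, D) :=
    inferInstanceAs (IsLocalization.Away c Γ(Spec C, PrimeSpectrum.basicOpen c))
  obtain ⟨k, x, hx⟩ := IsLocalization.Away.surj c z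
  have hres : ∀ a : C, algebraMap C Γ(Spec C, D) a =
      (Spec C).presheaf.map (homOfLE (le_top : D ≤ ⊤)).op (σ a) := fun _ => rfl
  have key : P.presheaf.map (homOfLE (le_top : j ⁻¹ᵁ D ≤ ⊤)).op
      (j.appTop (σ x) - j.appTop (σ c) ^ k * y) = 0 := by
    have hn : ∀ a : C, j.app D (algebraMap C Γ(Spec C, D) a) =
        P.presheaf.map (homOfLE (le_top : j ⁻¹ᵁ D ≤ ⊤)).op (j.appTop (σ a)) := fun a => by
      rw [hres]
      exact congr($(Scheme.Hom.naturality j (homOfLE (le_top : D ≤ ⊤)).op) (σ a))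
    rw [map_sub, map_mul, map_pow, ← hn, ← hn, ← hz, ← map_pow, ← map_mul, mul_comm, hx, sub_self]
  have hle : P.basicOpen (j.appTop (σ c)) ≤ j ⁻¹ᵁ D := by
    rw [hD]
    exact (Scheme.preimage_basicOpen j (σ c)).ge
  obtain ⟨N, hN⟩ := exists_pow_mul_eq_zero_of_res_basicOpen_eq_zero_of_isCompact P
    (U := ⊤) isCompact_univ (j.appTop (σ x) - j.appTop (σ c) ^ k * y) (j.appTop (σ c)) (by
      have := congrArg (P.presheaf.map (homOfLE hle).op) key
      refine Eq.trans ?_ (this.trans (map_zero _))
      exact (congr($(P.presheaf.map_comp (homOfLE (le_top : j ⁻¹ᵁ D ≤ ⊤)).op (homOfLE hle).op)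
        (j.appTop (σ x) - j.appTop (σ c) ^ k * y))))
  refine ⟨N + k, c ^ N * x, ?_⟩
  change j.appTop (σ (c ^ N * x)) = j.appTop (σ c) ^ (N + k) * y
  rw [mul_sub, sub_eq_zero] at hN
  rw [map_mul, map_mul, map_pow, map_pow, hN, pow_add, mul_assoc]

/-- A section of an affine scheme vanishing on an open is killed by a power of a function. -/
theorem exists_pow_mul_eq_zero {C : CommRingCat.{u}} {P : Scheme.{u}}
    (j : P ⟶ Spec C) [IsOpenImmersion j] {c : C}
    (hc : PrimeSpectrum.basicOpen c ≤ j.opensRange) {x : C}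
    (hx : j.appTop ((Scheme.ΓSpecIso C).inv x) = 0) :
    ∃ k : ℕ, c ^ k * x = 0 := by
  let σ := (Scheme.ΓSpecIso C).inv
  let D : (Spec C).Opens := PrimeSpectrum.basicOpen c
  haveI : IsIso (j.app D) := j.isIso_app D hc
  haveI : IsLocalization.Away c Γ(Spec C, D) :=
    inferInstanceAs (IsLocalization.Away c Γ(Spec C, PrimeSpectrum.basicOpen c))
  have h0 : algebraMap C Γ(Spec C, D) x = 0 := by
    apply (ConcreteCategory.bijective_of_isIso (j.app D)).1
    rw [map_zero]
    refine (congr($(Scheme.Hom.naturality j (homOfLE (le_top : D ≤ ⊤)).op) (σ x))).trans ?_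
    show P.presheaf.map _ (j.appTop (σ x)) = 0
    rw [hx, map_zero]
  obtain ⟨⟨_, k, rfl⟩, hk⟩ :=
    (IsLocalization.map_eq_zero_iff (Submonoid.powers c) Γ(Spec C, D) x).1 h0
  exact ⟨k, hk⟩

/-- Purity makes a glued finite algebra, étale over the punctured spectrum, flat. -/
theorem flat_of_purity (hdepth : (2 : ℕ∞) ≤ LocCoh.depth B B) (hpure : FEt.PurityHolds B)
    (C : Type u) [CommRing C] [Algebra B C] [Module.Finite B C]
    (htf : ∀ (r : B) (x : C), r ≠ 0 → r • x = 0 → x = 0)
    (het : ∀ q : PrimeSpectrum C, PrimeSpectrum.comap (algebraMap B C) q ∈ FEt.puncturedSpec B →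
      Algebra.IsEtaleAt B q.asIdeal)
    {n : ℕ} (c : Fin n → B) (hcm : ∀ i, c i ∈ IsLocalRing.maximalIdeal B) (hc0 : ∀ i, c i ≠ 0)
    (hglue : ∀ (k : ℕ) (a : Fin n → C), (∀ i l, c l ^ k • a i = c i ^ k • a l) →
      ∃ x, ∀ i, c i ^ k • x = a i) (hn : 0 < n) :
    Module.Flat B C := by
  haveI := hpure
  haveI : Algebra.FinitePresentation B C := Algebra.FinitePresentation.of_finiteType.mp inferInstance
  haveI : IsNoetherianRing C := IsNoetherianRing.of_finite B C
  let U := FEt.puncturedSpec B
  let q0 : Spec (CommRingCat.of C) ⟶ Spec (CommRingCat.of B) :=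
    Spec.map (CommRingCat.ofHom (algebraMap B C))
  have hfin : IsFinite q0 := (IsFinite.SpecMap_iff _).mpr (RingHom.finite_algebraMap.mpr inferInstance)
  let V : FEt.Cat (U : Scheme.{u}) := MorphismProperty.Over.mk ⊤ (pullback.snd q0 U.ι)
    ⟨MorphismProperty.pullback_snd (P := @IsFinite) _ _ hfin, Pure83.etale_snd_open U het⟩
  haveI : (FEt.restrict U.ι).EssSurj := hpure
  obtain ⟨Y, ⟨e⟩⟩ := Functor.EssSurj.mem_essImage (F := FEt.restrict U.ι) V
  obtain ⟨D, ⟨eD⟩⟩ := (inferInstance : (FEt83.specFunctor B).EssSurj).mem_essImage Y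
  let C' := D.unop.obj
  let T := (FEt83.specFunctor B).obj D
  let e' : (FEt.restrict U.ι).obj T ≅ V := (FEt.restrict U.ι).mapIso eD ≪≫ e
  let P : Scheme.{u} := V.left
  let j : P ⟶ Spec (CommRingCat.of C) := pullback.fst q0 U.ι
  let k : P ⟶ pullback T.hom U.ι := e'.inv.left
  haveI : IsIso k :=
    ((MorphismProperty.Over.forget _ _ _ ⋙ CategoryTheory.Over.forget _).mapIso e'.symm).isIso_hom
  let j' : P ⟶ Spec (CommRingCat.of C') := k ≫ pullback.fst T.hom U.ι
  haveI : IsOpenImmersion j :=
    MorphismProperty.pullback_fst (P := @IsOpenImmersion) _ _ inferInstance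
  haveI : CompactSpace P := by
    refine ⟨?_⟩
    rw [j.isOpenEmbedding.isCompact_iff]
    exact TopologicalSpace.NoetherianSpace.isCompact (α := PrimeSpectrum C) _
  haveI : IsOpenImmersion (pullback.fst T.hom U.ι) :=
    MorphismProperty.pullback_fst (P := @IsOpenImmersion) _ _ inferInstance
  haveI : IsOpenImmersion j' := inferInstanceAs (IsOpenImmersion (k ≫ pullback.fst T.hom U.ι))
  have hbase : j ≫ q0 = j' ≫ Spec.map (CommRingCat.ofHom (algebraMap B C')) := by
    show pullback.fst q0 U.ι ≫ q0 = (k ≫ pullback.fst T.hom U.ι) ≫ T.hom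
    refine (pullback.condition).trans ?_
    refine Eq.trans ?_ ((Category.assoc _ _ _).trans (congrArg (k ≫ ·) pullback.condition.symm) |>.trans
      (Category.assoc _ _ _).symm)
    exact congrArg (· ≫ U.ι) (Over.w e'.inv.hom).symm
  let σ : C →+* Γ(P, ⊤) := ((Scheme.ΓSpecIso (CommRingCat.of C)).inv ≫ j.appTop).hom
  let σ' : C' →+* Γ(P, ⊤) := ((Scheme.ΓSpecIso (CommRingCat.of C')).inv ≫ j'.appTop).hom
  have hσ : ∀ b : B, σ (algebraMap B C b) = σ' (algebraMap B C' b) := fun b => by
    have h1 := congr($(Scheme.ΓSpecIso_inv_naturality (CommRingCat.ofHom (algebraMap B C))) b)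
    have h2 := congr($(Scheme.ΓSpecIso_inv_naturality (CommRingCat.ofHom (algebraMap B C'))) b)
    have h3 := congr($(congrArg Scheme.Hom.appTop hbase)
      ((Scheme.ΓSpecIso (CommRingCat.of B)).inv b))
    simp only [Scheme.Hom.comp_appTop, CommRingCat.comp_apply] at h3
    show j.appTop ((Scheme.ΓSpecIso (CommRingCat.of C)).inv (algebraMap B C b)) =
      j'.appTop ((Scheme.ΓSpecIso (CommRingCat.of C')).inv (algebraMap B C' b))
    exact ((congrArg _ h1).trans h3).trans (congrArg _ h2).symm
  have hσ'bij : Function.Bijective σ' := by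
    have hd : ∀ t : Spec (CommRingCat.of C'), t ∉ Set.range j' →
        (2 : ℕ∞) ≤ LocCoh.depth ((Spec (CommRingCat.of C')).presheaf.stalk t)
          ((Spec (CommRingCat.of C')).presheaf.stalk t) := fun t ht => by
      have hE : Etale T.hom := T.prop.2
      have hN : IsLocallyNoetherian (Spec (CommRingCat.of B)) := inferInstance
      refine le_of_le_of_eq ?_ (@FEt83.depth_stalk_of_etale (Spec (CommRingCat.of B)) _ hN T.hom hE t).symm
      have hx : T.hom t ∉ U := fun hU => ht (by
        obtain ⟨w, hw⟩ := FEt83.exists_point T (f := U.ι) (y := t) (x := ⟨T.hom t, hU⟩) rfl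
        refine ⟨(inv k) w, ?_⟩
        show j' ((inv k) w) = t
        rw [← Scheme.Hom.comp_apply, IsIso.inv_hom_id_assoc]
        exact hw)
      have hm : T.hom t = IsLocalRing.closedPoint B := not_not.1 hx
      rw [hm, FEt83.depth_stalk_Spec]
      exact hdepth.trans (CAlg1.depth_eq_of_ringEquiv
        (IsLocalization.atUnits B (IsLocalRing.closedPoint B).asIdeal.primeCompl
          (S := Localization.AtPrime (IsLocalRing.closedPoint B).asIdeal) (fun x hx =>
          not_not.1 fun h => hx h)).toRingEquiv).le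
    haveI : IsLocallyNoetherian (Spec (CommRingCat.of C')) := by
      have : IsNoetherianRing C' := IsNoetherianRing.of_finite B C'
      infer_instance
    exact (FEt83.appTop_bijective_of_depth j' hd).comp
      (ConcreteCategory.bijective_of_isIso (Scheme.ΓSpecIso (CommRingCat.of C')).inv)
  let φ : C →ₗ[B] C' :=
    { toFun := fun x => (RingEquiv.ofBijective σ' hσ'bij).symm (σ x)
      map_add' := fun x y => by rw [map_add, map_add]
      map_smul' := fun r x => by
        apply hσ'bij.1
        rw [RingHom.id_apply, Algebra.smul_def, Algebra.smul_def, map_mul, map_mul σ',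
          ← hσ]
        show σ' ((RingEquiv.ofBijective σ' hσ'bij).symm _) = _ * σ' ((RingEquiv.ofBijective σ' hσ'bij).symm _)
        rw [← RingEquiv.ofBijective_apply σ' hσ'bij, RingEquiv.apply_symm_apply,
          ← RingEquiv.ofBijective_apply σ' hσ'bij, RingEquiv.apply_symm_apply] }
  have hφ : ∀ x, σ' (φ x) = σ x := fun x => by
    show (RingEquiv.ofBijective σ' hσ'bij) ((RingEquiv.ofBijective σ' hσ'bij).symm (σ x)) = σ x
    exact RingEquiv.apply_symm_apply _ _
  have hsub : ∀ b : B, b ∈ IsLocalRing.maximalIdeal B →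
      PrimeSpectrum.basicOpen (algebraMap B C b) ≤ j.opensRange := fun b hb q hq => by
    show q ∈ Set.range j
    show q ∈ Set.range (pullback.fst q0 U.ι)
    rw [IsOpenImmersion.range_pullbackFst, Scheme.Opens.opensRange_ι]
    show PrimeSpectrum.comap (algebraMap B C) q ∈ U
    refine (Pure83.mem_puncturedSpec_iff _).2 fun he => hq ?_
    exact he.ge hb
  have hflat' : ∀ (r : B) (y : C'), r ≠ 0 → r • y = 0 → y = 0 := fun r y hr h => by
    haveI : Module.Flat B C' := inferInstance
    haveI : Algebra.Etale B C' := inferInstance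
    exact (Module.Flat.isSMulRegular_of_isRegular (M := C')
      (IsRegular.of_ne_zero hr)).right_eq_zero_of_smul h
  have hinj : Function.Injective φ := (injective_iff_map_eq_zero _).2 fun x hx => by
    have h0 : σ x = 0 := by rw [← hφ, hx, map_zero]
    obtain ⟨N, hN⟩ := exists_pow_mul_eq_zero j (hsub _ (hcm ⟨0, hn⟩)) h0
    refine htf (c ⟨0, hn⟩ ^ N) x (pow_ne_zero _ (hc0 _)) ?_
    rw [Algebra.smul_def, map_pow, hN]
  have hsurj : Function.Surjective φ := by
    intro y
    choose N x hx using fun i => exists_sec_mul j (hsub _ (hcm i)) (σ' y)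
    have hx' : ∀ i, φ (x i) = c i ^ N i • y := fun i => by
      apply hσ'bij.1
      rw [hφ, Algebra.smul_def, map_pow, map_mul, map_pow, ← hσ]
      exact hx i
    let M := Finset.univ.sup N
    let a : Fin n → C := fun i => c i ^ (M - N i) • x i
    have ha : ∀ i, φ (a i) = c i ^ M • y := fun i => by
      rw [map_smul, hx', smul_smul, ← pow_add,
        Nat.sub_add_cancel (Finset.le_sup (f := N) (Finset.mem_univ i))]
    obtain ⟨z, hz⟩ := hglue M a fun i l => hinj (by
      refine (φ.map_smul _ (a i)).trans (Eq.trans ?_ (φ.map_smul _ (a l)).symm)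
      rw [ha, ha, smul_smul, smul_smul, mul_comm])
    refine ⟨z, ?_⟩
    have h1 : c ⟨0, hn⟩ ^ M • (φ z - y) = 0 := by
      rw [smul_sub, ← map_smul, hz, ha, sub_self]
    exact sub_eq_zero.1 (hflat' _ _ (pow_ne_zero _ (hc0 _)) h1)
  haveI : Module.Flat B C' := inferInstance
  exact Module.Flat.of_linearEquiv (LinearEquiv.ofBijective φ ⟨hinj, hsurj⟩)

end Groth.Agent.ClTors18
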