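import Groth.Agent.ClTors18.Cyclic
import Mathlib.RingTheory.Localization.Integral

/-! The cyclic cover is étale where the function is an `s`-th power up to a unit. -/

set_option autoImplicit false
set_option linter.style.haveILetI false
set_option linter.unusedSectionVars false
set_option maxHeartbeats 800000

noncomputable section

universe u

open Polynomial

namespace Groth.Agent.ClTors18

variable {B : Type u} [CommRing B] [IsDomain B] [IsNoetherianRing B] [IsIntegrallyClosed B]
  {K : Type u} [Field K] [Algebra B K] [IsFractionRing B K]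

/-- `X^s - u` is standard étale for a unit `u` and invertible `s`. -/
theorem etale_adjoinRoot {R : Type u} [CommRing R] {s : ℕ} (hs : 0 < s) (hsu : IsUnit (s : R))
    {u : R} (hu : IsUnit u) : Algebra.Etale R (AdjoinRoot (X ^ s - C u : R[X])) := by
  obtain ⟨a, rfl⟩ := hu
  obtain ⟨σ, hσ⟩ := hsu
  have hcond : derivative (X ^ s - C (a : R)) * (C ((↑a⁻¹ : R) * ↑σ⁻¹) * X) +
      (X ^ s - C (a : R)) * (-(C (↑a⁻¹ : R))) = (1 : R[X]) := by
    rw [derivative_sub, derivative_X_pow, derivative_C, sub_zero, ← hσ]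
    obtain ⟨d, rfl⟩ : ∃ d, s = d + 1 := ⟨s - 1, by omega⟩
    have h1 : C (↑σ : R) * C (↑σ⁻¹ : R) = 1 := by rw [← map_mul, Units.mul_inv, map_one]
    have h2 : C (↑a : R) * C (↑a⁻¹ : R) = 1 := by rw [← map_mul, Units.mul_inv, map_one]
    rw [Nat.add_sub_cancel, map_mul, pow_succ]
    linear_combination (X ^ d * X * C (↑a⁻¹ : R)) * h1 + h2
  let P : StandardEtalePair R :=
    ⟨X ^ s - C (a : R), monic_X_pow_sub_C _ hs.ne', 1, ⟨_, _, 1, by rw [pow_one]; exact hcond⟩⟩
  have h1 : IsUnit (AdjoinRoot.mk P.f P.g) := by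
    rw [show P.g = 1 from rfl, map_one]
    exact isUnit_one
  exact Algebra.Etale.of_equiv (P.equivAwayAdjoinRoot.trans
    ((IsLocalization.atUnit _ (Localization.Away (AdjoinRoot.mk P.f P.g)) (AdjoinRoot.mk P.f P.g) h1).symm.restrictScalars R))

variable {s : ℕ} (hs : 0 < s) (g : K)

theorem isUnit_map {c : B} (hc : c ≠ 0) : IsUnit (algebraMap B K c) :=
  ((map_ne_zero_iff _ (IsFractionRing.injective B K)).2 hc).isUnit

/-- `B[1/c] → K`. -/
def toK {c : B} (hc : c ≠ 0) : Localization.Away c →ₐ[B] K :=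
  IsLocalization.Away.liftAlgHom c (f := Algebra.ofId B K) (isUnit_map hc)

theorem toK_injective {c : B} (hc : c ≠ 0) : Function.Injective (toK (K := K) hc) :=
  (injective_iff_map_eq_zero _).2 fun y hy => by
    obtain ⟨x, d, rfl⟩ := IsLocalization.exists_mk'_eq (Submonoid.powers c) y
    have h := congrArg (toK (K := K) hc) (IsLocalization.mk'_spec (Localization.Away c) x d)
    rw [map_mul, hy, zero_mul, AlgHom.commutes, eq_comm, map_eq_zero_iff _ (IsFractionRing.injective B K)] at h
    rw [h, IsLocalization.mk'_zero]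

theorem inLoc_iff {c : B} (hc : c ≠ 0) (z : K) :
    InLoc c z ↔ ∃ r : Localization.Away c, toK hc r = z := by
  constructor
  · rintro ⟨N, e, he⟩
    refine ⟨IsLocalization.mk' _ e (⟨c ^ N, N, rfl⟩ : Submonoid.powers c), ?_⟩
    have h := congrArg (toK (K := K) hc)
      (IsLocalization.mk'_spec (Localization.Away c) e (⟨c ^ N, N, rfl⟩ : Submonoid.powers c))
    rw [map_mul, AlgHom.commutes, AlgHom.commutes, he, map_pow, mul_comm] at h
    exact mul_left_cancel₀ (pow_ne_zero N (isUnit_map hc).ne_zero) h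
  · rintro ⟨r, rfl⟩
    obtain ⟨e, ⟨_, N, rfl⟩, rfl⟩ := IsLocalization.exists_mk'_eq (Submonoid.powers c) r
    refine ⟨N, e, ?_⟩
    have h := congrArg (toK (K := K) hc)
      (IsLocalization.mk'_spec (Localization.Away c) e (⟨c ^ N, N, rfl⟩ : Submonoid.powers c))
    rw [map_mul, AlgHom.commutes, AlgHom.commutes, map_pow, mul_comm] at h
    exact h.symm

/-- The cyclic cover is étale at the primes over which `g` is an `s`-th power up to a unit. -/
theorem etale_away (hg : g ≠ 0) (hsu : IsUnit (s : B)) {c : B} (hc : c ≠ 0) {h : K}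
    (h1 : InLoc c (g * h ^ s)) (h2 : InLoc c ((g * h ^ s)⁻¹)) (hh : h ≠ 0) :
    Algebra.Etale B (Localization.Away (algebraMap B (Cov (B := B) hs g) c)) := by
  let R := Localization.Away c
  let ι : R →ₐ[B] K := toK hc
  haveI : Nontrivial R := (ι : R →+* K).domain_nontrivial
  obtain ⟨u, hu⟩ := (inLoc_iff hc _).1 h1
  obtain ⟨v, hv⟩ := (inLoc_iff hc _).1 h2
  have hu1 : u * v = 1 := toK_injective (K := K) hc (by
    rw [map_mul, hu, hv, map_one, mul_inv_cancel₀ (mul_ne_zero hg (pow_ne_zero s hh))])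
  let f : R[X] := X ^ s - C u
  let θ : Amb g s := AdjoinRoot.root (X ^ s - C g)
  let iR : R →ₐ[B] Amb g s := (IsScalarTower.toAlgHom B K (Amb g s)).comp ι
  have hroot : f.eval₂ iR.toRingHom (h • θ) = 0 := by
    show (X ^ s - C u : R[X]).eval₂ _ _ = 0
    rw [eval₂_sub, eval₂_pow, eval₂_X, eval₂_C, smul_pow, root_pow_s, Algebra.smul_def]
    show algebraMap K (Amb g s) (h ^ s) * algebraMap K (Amb g s) g -
      algebraMap K (Amb g s) (ι u) = 0
    rw [show ι u = g * h ^ s from hu, ← map_mul, mul_comm, sub_self]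
  let ψ : AdjoinRoot f →ₐ[B] Amb g s :=
    { AdjoinRoot.lift iR.toRingHom (h • θ) hroot with
      commutes' := fun b => by
        show AdjoinRoot.lift iR.toRingHom (h • θ) hroot (algebraMap B (AdjoinRoot f) b) = _
        rw [IsScalarTower.algebraMap_apply B R (AdjoinRoot f)]
        exact (AdjoinRoot.lift_of hroot).trans (iR.commutes b) }
  have hψ : ∀ (r : R) (i : ℕ), ψ (AdjoinRoot.of f r * AdjoinRoot.root f ^ i) =
      (ι r * h ^ i) • θ ^ i := fun r i => by
    show AdjoinRoot.lift iR.toRingHom (h • θ) hroot (AdjoinRoot.of f r * AdjoinRoot.root f ^ i) = _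
    rw [map_mul, map_pow, AdjoinRoot.lift_of, AdjoinRoot.lift_root, smul_pow, mul_smul,
      Algebra.smul_def (ι r)]
    rfl
  have hf : f.Monic := monic_X_pow_sub_C u hs.ne'
  have hfd : f.natDegree = s := natDegree_X_pow_sub_C
  have hne : f ≠ 1 := fun h' => by rw [h', natDegree_one] at hfd; omega
  have hexp : ∀ z : AdjoinRoot f, ψ z = ∑ i ∈ Finset.range s,
      (ι ((AdjoinRoot.modByMonicHom hf z).coeff i) * h ^ i) • θ ^ i := fun z => by
    have hd : (AdjoinRoot.modByMonicHom hf z).natDegree < s := by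
      induction z using AdjoinRoot.induction_on with
      | ih p => rw [AdjoinRoot.modByMonicHom_mk]; exact (natDegree_modByMonic_lt p hf hne).trans_eq hfd
    conv_lhs => rw [← AdjoinRoot.mk_leftInverse hf z, as_sum_range' _ s hd]
    rw [map_sum, map_sum]
    refine Finset.sum_congr rfl fun i _ => ?_
    rw [← C_mul_X_pow_eq_monomial, map_mul, map_pow, AdjoinRoot.mk_X, AdjoinRoot.mk_C, hψ]
  have hco : ∀ z : AdjoinRoot f, ∀ i < s,
      co hs g i (ψ z) = ι ((AdjoinRoot.modByMonicHom hf z).coeff i) * h ^ i := fun z i hi => by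
    rw [hexp, map_sum, Finset.sum_eq_single i]
    · exact (co_smul_root_pow hs g hi _).trans (if_pos rfl)
    · exact fun j hj hji => (co_smul_root_pow hs g (Finset.mem_range.1 hj) _).trans (if_neg hji)
    · exact fun hn => absurd (Finset.mem_range.2 hi) hn
  have hψinj : Function.Injective ψ := (injective_iff_map_eq_zero ψ).2 fun z hz => by
    rw [← AdjoinRoot.mk_leftInverse hf z]
    convert map_zero (AdjoinRoot.mk f)
    ext i
    rw [coeff_zero]
    by_cases hi : i < s
    · refine toK_injective (K := K) hc ?_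
      have h0 := hco z i hi
      rw [hz, map_zero] at h0
      rw [map_zero]
      exact (mul_eq_zero.1 h0.symm).resolve_right (pow_ne_zero i hh)
    · induction z using AdjoinRoot.induction_on with
      | ih p =>
        rw [AdjoinRoot.modByMonicHom_mk]
        exact coeff_eq_zero_of_natDegree_lt
          ((natDegree_modByMonic_lt p hf hne).trans_le (hfd.trans_le (not_lt.1 hi)))
  let C₁ := Cov (B := B) hs g
  let L := Localization.Away (algebraMap B C₁ c)
  have hcC : IsUnit (C₁.val (algebraMap B C₁ c)) := by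
    rw [C₁.val.commutes, IsScalarTower.algebraMap_apply B K (Amb g s)]
    exact (isUnit_map (K := K) hc).map _
  let φ : L →ₐ[B] Amb g s := IsLocalization.Away.liftAlgHom (algebraMap B C₁ c) (f := C₁.val) hcC
  have hφ : ∀ x : C₁, φ (algebraMap C₁ L x) = x.1 := fun x => by
    exact IsLocalization.Away.lift_eq (algebraMap B C₁ c) hcC x
  have hφinj : Function.Injective φ := (injective_iff_map_eq_zero _).2 fun y hy => by
    obtain ⟨x, d, rfl⟩ := IsLocalization.exists_mk'_eq (Submonoid.powers (algebraMap B C₁ c)) y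
    have h' := congrArg φ (IsLocalization.mk'_spec L x d)
    rw [map_mul, hy, zero_mul, hφ] at h'
    rw [show x = 0 from Subtype.ext h'.symm, IsLocalization.mk'_zero]
  have hpow : ∀ N : ℕ, φ (algebraMap C₁ L (algebraMap B C₁ c ^ N)) = algebraMap B (Amb g s) (c ^ N) :=
    fun N => by
      rw [hφ, ← map_pow]
      rfl
  have hrange : ψ.range = φ.range := by
    refine le_antisymm ?_ ?_
    · rintro _ ⟨z, rfl⟩
      have hN : ∀ i : ℕ, ∃ N, algebraMap B K c ^ N *
          (ι ((AdjoinRoot.modByMonicHom hf z).coeff i) * h ^ i) ∈ J (B := B) hs g i := fun i => by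
        have h3 : InLoc c ((ι ((AdjoinRoot.modByMonicHom hf z).coeff i) * h ^ i) ^ s * g ^ i) := by
          rw [show (ι ((AdjoinRoot.modByMonicHom hf z).coeff i) * h ^ i) ^ s * g ^ i =
            ι ((AdjoinRoot.modByMonicHom hf z).coeff i) ^ s * (g * h ^ s) ^ i by ring]
          exact (((inLoc_iff hc _).2 ⟨_, rfl⟩).pow s).mul (h1.pow i)
        obtain ⟨N, hN⟩ := h3
        refine ⟨N, ?_⟩
        obtain ⟨d, hd⟩ : ∃ d, s = d + 1 := ⟨s - 1, by omega⟩
        show InB (B := B) K _
        rw [InB, show (algebraMap B K c ^ N *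
            (ι ((AdjoinRoot.modByMonicHom hf z).coeff i) * h ^ i)) ^ s * g ^ i =
          (algebraMap B K c ^ N) ^ d * (algebraMap B K c ^ N *
            ((ι ((AdjoinRoot.modByMonicHom hf z).coeff i) * h ^ i) ^ s * g ^ i)) by rw [hd]; ring]
        exact mul_mem (pow_mem (pow_mem (RingHom.mem_range_self (algebraMap B K) c) _) _) hN
      choose N hN using hN
      let M := (Finset.range s).sup N
      have hz : c ^ M • ψ z ∈ C₁ := fun i hi => by
        obtain ⟨d, hd⟩ := Nat.exists_eq_add_of_le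
          (Finset.le_sup (f := N) (Finset.mem_range.2 hi))
        rw [co_smul_B, hco z i hi, show M = N i + d from hd, map_pow, add_comm, pow_add, mul_assoc,
          ← map_pow, ← Algebra.smul_def]
        exact Submodule.smul_mem _ _ (hN i)
      refine ⟨IsLocalization.mk' L (⟨_, hz⟩ : C₁)
        (⟨algebraMap B C₁ c ^ M, M, rfl⟩ : Submonoid.powers (algebraMap B C₁ c)), ?_⟩
      have h4 := congrArg φ (IsLocalization.mk'_spec L (⟨_, hz⟩ : C₁)
        (⟨algebraMap B C₁ c ^ M, M, rfl⟩ : Submonoid.powers (algebraMap B C₁ c)))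
      rw [map_mul, hpow, hφ] at h4
      change φ _ * _ = c ^ M • ψ z at h4
      replace h4 := (mul_comm _ _).trans (h4.trans (Algebra.smul_def (c ^ M) (ψ z)))
      refine ((isUnit_map (K := K) hc).pow M |>.map (algebraMap K (Amb g s))).mul_left_cancel ?_
      rw [← map_pow, ← IsScalarTower.algebraMap_apply]
      exact h4
    · rintro _ ⟨y, rfl⟩
      obtain ⟨x, ⟨_, N, rfl⟩, rfl⟩ := IsLocalization.exists_mk'_eq (Submonoid.powers (algebraMap B C₁ c)) y
      have hcoef : ∀ i : Fin s, ∃ r : R, ι r * h ^ (i : ℕ) = co hs g i x.1 := fun i => by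
        have h3 : InLoc c (co hs g i x.1 * (h ^ (i : ℕ))⁻¹) := by
          refine InLoc.of_pow hs ?_
          have h4 : InLoc c (co hs g i x.1 ^ s * g ^ (i : ℕ)) := .of_inB (x.2 i i.2)
          rw [show (co hs g i x.1 * (h ^ (i : ℕ))⁻¹) ^ s =
            (co hs g i x.1 ^ s * g ^ (i : ℕ)) * ((g * h ^ s)⁻¹) ^ (i : ℕ) by
              rw [mul_pow, inv_pow, inv_pow, mul_pow, ← pow_mul, ← pow_mul, mul_comm (i : ℕ) s]
              field_simp]
          exact h4.mul (h2.pow _)
        obtain ⟨r, hr⟩ := (inLoc_iff hc _).1 h3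
        exact ⟨r, by rw [show ι r = _ from hr, inv_mul_cancel_right₀ (pow_ne_zero _ hh)]⟩
      choose r hr using hcoef
      refine ⟨AdjoinRoot.of f (IsLocalization.mk' R 1 (⟨c ^ N, N, rfl⟩ : Submonoid.powers c)) *
        ∑ i : Fin s, AdjoinRoot.of f (r i) * AdjoinRoot.root f ^ (i : ℕ), ?_⟩
      have h5 := congrArg φ (IsLocalization.mk'_spec L x
        (⟨algebraMap B C₁ c ^ N, N, rfl⟩ : Submonoid.powers (algebraMap B C₁ c)))
      rw [map_mul, hpow, hφ] at h5
      refine ((isUnit_map (K := K) hc).pow N |>.map (algebraMap K (Amb g s))).mul_right_cancel ?_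
      rw [← map_pow, ← IsScalarTower.algebraMap_apply]
      refine Eq.trans ?_ h5.symm
      rw [show algebraMap B (Amb g s) (c ^ N) = ψ (AdjoinRoot.of f (algebraMap B R (c ^ N))) from
        (ψ.commutes (c ^ N)).symm.trans (congrArg ψ (IsScalarTower.algebraMap_apply B R (AdjoinRoot f) _))]
      show ψ _ * ψ _ = _
      rw [← map_mul, mul_right_comm, ← map_mul, IsLocalization.mk'_spec, map_one, map_one, one_mul,
        map_sum, sum_co hs g x.1, Finset.sum_range]
      exact Finset.sum_congr rfl fun i _ => by rw [hψ, hr]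
  let e : AdjoinRoot f ≃ₐ[B] L :=
    (AlgEquiv.ofInjective ψ hψinj).trans ((Subalgebra.equivOfEq _ _ hrange).trans
      (AlgEquiv.ofInjective φ hφinj).symm)
  haveI : Algebra.Etale R (AdjoinRoot f) := etale_adjoinRoot hs
    (by have := hsu.map (algebraMap B R); rwa [map_natCast] at this) (IsUnit.of_mul_eq_one v hu1)
  haveI : Algebra.Etale B R := Algebra.Etale.of_isLocalizationAway c
  haveI : Algebra.Etale B (AdjoinRoot f) := Algebra.Etale.comp B R (AdjoinRoot f)
  exact Algebra.Etale.of_equiv e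

end Groth.Agent.ClTors18
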