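import Groth.Agent.ClTors18.Root
import Groth.Agent.Div89.Ref1.Class
import Groth.Agent.Div89.Ref1.Constr
import Groth.Agent.RefCh18.Frob
import Groth.Agent.NeronHD28.GenExtendFinite
import Groth.Prelude.Def_Ref1Cl

/-! The reflexive class group of a local normal domain with purity has no torsion prime to the
residue characteristic. -/

set_option autoImplicit false
set_option linter.style.haveILetI false
set_option maxHeartbeats 1000000
set_option backward.isDefEq.respectTransparency.types false

noncomputable section

universe u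

open CategoryTheory Limits AlgebraicGeometry TopologicalSpace Opposite

namespace Groth.Agent.ClTors18

/-- A function that is an `s`-th power up to units in codimension one is one everywhere. -/
theorem exists_root {A : Type u} [CommRing A] [IsDomain A] [IsNoetherianRing A] [IsIntegrallyClosed A]
    {K : Type u} [Field K] [Algebra A K] [IsFractionRing A K] {s : ℕ} (hs : 1 < s)
    (hsu : IsUnit (s : A)) (g : K) (hg : g ≠ 0)
    (hpure : ∀ (P : Ideal A) [P.IsPrime], (2 : ℕ∞) ≤ P.height → FEt.PurityHolds (Localization.AtPrime P))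
    (h1 : ∀ (P : Ideal A) [P.IsPrime], P.height = 1 → ∃ h : K, h ≠ 0 ∧ UnitAt P (g * h ^ s)) :
    ∀ (P : Ideal A) [P.IsPrime], ∃ h : K, h ≠ 0 ∧ UnitAt P (g * h ^ s) := by
  suffices H : ∀ (m : ℕ) (P : Ideal A), P.IsPrime → P.height = (m : ℕ∞) →
      ∃ h : K, h ≠ 0 ∧ UnitAt P (g * h ^ s) by
    intro P hP
    exact H P.height.toNat P hP (ENat.coe_toNat (P.height_ne_top hP.ne_top)).symm
  intro m
  induction m using Nat.strong_induction_on with
  | _ m ih =>
    intro P hP hm
    rcases Nat.lt_or_ge m 2 with hlt | hge
    · interval_cases m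
      · have hbot : P = ⊥ := Ideal.height_eq_zero_iff.1 (by exact_mod_cast hm) |> fun h => by
          rw [IsDomain.minimalPrimes_eq_singleton_bot] at h
          exact Set.mem_singleton_iff.1 h
        obtain ⟨n, d, hd, hnd⟩ := IsFractionRing.div_surjective A g
        have hdK : algebraMap A K d ≠ 0 :=
          (map_ne_zero_iff _ (IsFractionRing.injective A K)).2 (nonZeroDivisors.ne_zero hd)
        refine ⟨1, one_ne_zero, n, d, ?_, ?_, by rw [one_pow, mul_one, ← hnd, div_mul_cancel₀ _ hdK]⟩
        · rw [hbot, Ideal.mem_bot]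
          intro h0
          exact hg (by rw [← hnd, h0, map_zero, zero_div])
        · rw [hbot, Ideal.mem_bot]
          exact nonZeroDivisors.ne_zero hd
      · exact h1 P (by exact_mod_cast hm)
    · let B := Localization.AtPrime P
      have hmap : ∀ y : P.primeCompl, IsUnit (algebraMap A K y) := fun y =>
        ((map_ne_zero_iff _ (IsFractionRing.injective A K)).2 fun h => y.2 (by rw [h]; exact zero_mem _)).isUnit
      letI : Algebra B K := (IsLocalization.lift (M := P.primeCompl) (S := B) hmap).toAlgebra
      haveI : IsScalarTower A B K :=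
        IsScalarTower.of_algebraMap_eq fun a => (IsLocalization.lift_eq hmap a).symm
      haveI : IsFractionRing B K :=
        IsFractionRing.isFractionRing_of_isDomain_of_isLocalization P.primeCompl B K
      haveI : IsIntegrallyClosed B :=
        isIntegrallyClosed_of_isLocalization _ P.primeCompl P.primeCompl_le_nonZeroDivisors
      have h2P : (2 : ℕ∞) ≤ P.height := by rw [hm]; exact_mod_cast hge
      have hdim : (2 : WithBot ℕ∞) ≤ ringKrullDim B := by
        rw [IsLocalization.AtPrime.ringKrullDim_eq_height P B]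
        exact WithBot.coe_le_coe.2 h2P
      have hsB : IsUnit (s : B) := by
        have := hsu.map (algebraMap A B)
        rwa [map_natCast] at this
      obtain ⟨h, hh, a, b, ha, hb, hab⟩ := exists_root_step (B := B) hdim (hpure P h2P) hs hsB g hg
        fun q hq hne => by
          have hle : q.comap (algebraMap A B) ≤ P := by
            refine le_of_le_of_eq (Ideal.comap_mono (IsLocalRing.le_maximalIdeal hq.ne_top)) ?_
            exact IsLocalization.AtPrime.comap_maximalIdeal B P
          have hlt : q.comap (algebraMap A B) < P := by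
            refine lt_of_le_of_ne hle fun he => hne ?_
            have := congrArg (Ideal.map (algebraMap A B)) he
            rwa [IsLocalization.map_comap P.primeCompl B,
              Localization.AtPrime.map_eq_maximalIdeal] at this
          have hfin : (q.comap (algebraMap A B)).height ≠ ⊤ :=
            Ideal.height_ne_top (I := q.comap (algebraMap A B)) (Ideal.IsPrime.ne_top inferInstance)
          have hhlt : (q.comap (algebraMap A B)).height < P.height :=
            Ideal.height_strict_mono_of_isPrime hlt
          rw [← ENat.coe_toNat hfin, hm] at hhlt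
          obtain ⟨h, hh, a, b, ha, hb, hab⟩ := ih _ (by exact_mod_cast hhlt) _ inferInstance
            (ENat.coe_toNat hfin).symm
          exact ⟨h, hh, algebraMap A B a, algebraMap A B b, ha, hb, by
            rw [← IsScalarTower.algebraMap_apply, ← IsScalarTower.algebraMap_apply, hab]⟩
      obtain ⟨⟨a', σ⟩, ha'⟩ := IsLocalization.surj P.primeCompl a
      obtain ⟨⟨b', τ⟩, hb'⟩ := IsLocalization.surj P.primeCompl b
      have hau : IsUnit a := not_not.1 ha
      have hbu : IsUnit b := not_not.1 hb
      have hnot : ∀ (x : B) (hx : IsUnit x) (x' : A) (ρ : P.primeCompl),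
          x * algebraMap A B ρ = algebraMap A B x' → x' ∉ P := fun x hx x' ρ he =>
        (IsLocalization.AtPrime.isUnit_to_map_iff B P x').1
          (he ▸ hx.mul (IsLocalization.map_units B ρ))
      refine ⟨h, hh, a' * τ, b' * σ,
        fun hmem => (hP.mem_or_mem hmem).elim (hnot a hau a' σ ha') τ.2,
        fun hmem => (hP.mem_or_mem hmem).elim (hnot b hbu b' τ hb') σ.2, ?_⟩
      have ea := congrArg (algebraMap B K) ha'
      have eb := congrArg (algebraMap B K) hb'
      rw [map_mul, ← IsScalarTower.algebraMap_apply, ← IsScalarTower.algebraMap_apply] at ea eb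
      rw [map_mul, map_mul, ← ea, ← eb, ← hab]
      ring

variable {A : Type u} [CommRing A] [IsDomain A] [IsLocalRing A] [IsNoetherianRing A] [IsIntegrallyClosed A]

open Div89 Div89.Ref1 in
/-- No torsion of order prime to the residue characteristic. -/
theorem eq_one_of_pow_eq_one [RefFun.Law (Spec (CommRingCat.of A))]
    (hpure : ∀ (P : Ideal A) [P.IsPrime], (2 : ℕ∞) ≤ P.height → FEt.PurityHolds (Localization.AtPrime P))
    (s : ℕ) (hs : 0 < s) (hsu : IsUnit ((s : ℕ) : A))
    (c : RefFun.Ref1Set (Spec (CommRingCat.of A))) (hc : c ^ s = 1) : c = 1 := by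
  let X := Spec (CommRingCat.of A)
  haveI : IsNoetherianRing (CommRingCat.of A) := inferInstanceAs (IsNoetherianRing A)
  haveI : IsDomain (CommRingCat.of A) := inferInstanceAs (IsDomain A)
  haveI : IsIntegral X := inferInstance
  rcases Nat.lt_or_ge 1 s with hs1 | hs1
  swap
  · have : s = 1 := by omega
    rwa [this, pow_one] at hc
  have hN : Pi1.IsNormalScheme X := NeronHD28.isNormalScheme_Spec A fun p _ => ⟨inferInstance,
    isIntegrallyClosed_of_isLocalization _ p.primeCompl p.primeCompl_le_nonZeroDivisors⟩
  obtain ⟨F, hF, hFr⟩ := c.2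
  have hpow : ∀ k : ℕ, (c ^ k).1 = PicF.cl (RefPow.refPow F k) := fun k => by
    induction k using Nat.strong_induction_on with
    | _ k ih =>
      match k with
      | 0 => rw [pow_zero]; exact RefFun.Law.one_val
      | 1 => rw [pow_one]; exact hF.symm
      | k + 2 =>
        rw [pow_succ, RefFun.Law.mul_val, ih (k + 1) (by omega), ← hF]
        rfl
  obtain ⟨e⟩ := (PicGrp.cl_eq_cl_iff _ _).1 ((hpow s).symm.trans (by rw [hc]; exact RefFun.Law.one_val))
  obtain ⟨v, hv⟩ := exists_ne_zero hN hFr
  obtain ⟨hR, w, hw, hwx⟩ := RefCh18.exists_refPow_sord hN hFr hv s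
  obtain ⟨hO, w', hw', hw'x⟩ := RefCh18.transport_sord hN e hR Crv77.isCoh_structureModule hw
  obtain ⟨o, ho, hox⟩ := exists_unit_section (X := X)
  have hOη := framed_of_isRef1 hN hO (Or.inl rfl)
  obtain ⟨φ, hφ⟩ := (smul_bijective_of_ne_zero hOη ho).2 w'
  have hφ0 : (φ : X.functionField) ≠ 0 := fun h0 => hw' (by
    rw [← hφ]
    show φ • o = 0
    rw [show φ = (0 : X.presheaf.stalk (genericPoint X)) from h0, zero_smul])
  have hD : ∀ x : X, Order.coheight x = 1 →
      Scheme.ord (φ : X.functionField) x = (s : ℤ) * sord F x v := fun x hx => by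
    have h3 := sord_smul (framed_of_isRef1 hN hO (Or.inr hx)) hx ho (φ : X.functionField) hφ0
    rw [hox x hx, add_zero] at h3
    rw [← h3, show ((φ : X.functionField) : X.presheaf.stalk (genericPoint X)) • o = w' from hφ,
      hw'x x hx, hwx x hx]
  let toSt (x : X) : A →+* X.presheaf.stalk x := (StructureSheaf.toStalk A x).hom
  letI : Algebra A X.functionField := (toSt (genericPoint X)).toAlgebra
  have hbot : genericPoint X = (⊥ : PrimeSpectrum A) := genericPoint_eq_bot_of_affine (CommRingCat.of A)
  haveI : IsFractionRing A X.functionField := by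
    have h1 := StructureSheaf.IsLocalization.to_stalk A (genericPoint X)
    have h2 : (PrimeSpectrum.asIdeal (genericPoint X)).primeCompl = nonZeroDivisors A := by
      rw [hbot]
      ext a
      exact mem_nonZeroDivisors_iff_ne_zero.symm
    have h3 : IsLocalization (nonZeroDivisors A) X.functionField := h2 ▸ h1
    exact h3
  let g : X.functionField := (φ : X.functionField)⁻¹
  have hg : g ≠ 0 := inv_ne_zero hφ0
  have halg : ∀ (x : X) (a : A),
      algebraMap (X.presheaf.stalk x) X.functionField (toSt x a) = algebraMap A X.functionField a := by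
    intro x a
    exact (algebraMap_germ (X := X) (U := ⊤) trivial _).trans rfl
  have hord : ∀ (x : X) (hx : Order.coheight x = 1) (z : X.functionField), z ≠ 0 →
      Scheme.ord z x = 0 → UnitAt (K := X.functionField) (PrimeSpectrum.asIdeal x) z := by
    intro x hx z hz h0
    obtain ⟨α, hα⟩ := (mem_range_iff hN hx hz).2 h0.ge
    obtain ⟨β, hβ⟩ := (mem_range_iff hN hx (inv_ne_zero hz)).2 (by rw [ord_inv z hz, h0, neg_zero])
    have hαu : IsUnit α := IsUnit.of_mul_eq_one β (IsFractionRing.injective (X.presheaf.stalk x) X.functionField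
      (by rw [map_mul, hα, hβ, map_one, mul_inv_cancel₀ hz]))
    letI : Algebra A (X.presheaf.stalk x) := (toSt x).toAlgebra
    haveI : IsLocalization.AtPrime (X.presheaf.stalk x) (PrimeSpectrum.asIdeal x) := by
      exact StructureSheaf.IsLocalization.to_stalk A x
    obtain ⟨⟨a, b⟩, hab⟩ := IsLocalization.surj (PrimeSpectrum.asIdeal x).primeCompl α
    refine ⟨a, b, (IsLocalization.AtPrime.isUnit_to_map_iff (X.presheaf.stalk x) _ a).1
      (hab ▸ hαu.mul (IsLocalization.map_units (X.presheaf.stalk x) b)), b.2, ?_⟩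
    rw [← halg x, ← halg x, ← hα, ← map_mul]
    exact congrArg _ hab
  let pt (P : Ideal A) (hP : P.IsPrime) : X := (⟨P, hP⟩ : PrimeSpectrum A)
  have hpt : ∀ (P : Ideal A) (hP : P.IsPrime), P.height = 1 →
      Order.coheight (pt P hP) = 1 := fun P hP hP1 => by
    have h3 := ringKrullDim_stalk_eq_coheight (pt P hP)
    letI : Algebra A (X.presheaf.stalk (pt P hP)) := (toSt (pt P hP)).toAlgebra
    haveI : IsLocalization.AtPrime (X.presheaf.stalk (pt P hP)) P :=
      StructureSheaf.IsLocalization.to_stalk A (⟨P, hP⟩ : PrimeSpectrum A)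
    rw [IsLocalization.AtPrime.ringKrullDim_eq_height P, hP1] at h3
    exact (WithBot.coe_inj.1 h3).symm
  obtain ⟨h, hh, a, b, ha, hb, hab⟩ := exists_root (K := X.functionField) hs1 hsu g hg hpure
    (fun P hP hP1 => by
      obtain ⟨h, hh, hho⟩ := exists_ord_eq hN (hpt P hP hP1) (sord F (pt P hP) v)
      refine ⟨h, hh, hord (pt P hP) (hpt P hP hP1) _ (mul_ne_zero hg (pow_ne_zero _ hh)) ?_⟩
      rw [Scheme.ord_mul hg (pow_ne_zero _ hh), ord_inv _ hφ0, hD _ (hpt P hP hP1),
        RefCh18.ord_pow_nat h hh (hpt P hP hP1), hho]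
      ring) (IsLocalRing.maximalIdeal A)
  have hz : ∀ x : X, Order.coheight x = 1 → Scheme.ord h x = sord F x v := fun x hx => by
    obtain ⟨ua, rfl⟩ : IsUnit a := not_not.1 ha
    obtain ⟨ub, rfl⟩ : IsUnit b := not_not.1 hb
    have h0 : Scheme.ord (g * h ^ s) x = 0 := by
      have e0 : g * h ^ s = algebraMap A X.functionField (ua * ub⁻¹ : Aˣ) := by
        rw [Units.val_mul, map_mul, ← hab, mul_assoc, ← map_mul, Units.mul_inv, map_one, mul_one]
      rw [e0, ← halg x]
      exact ord_algebraMap_of_isUnit hx ((Units.isUnit _).map _)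
    rw [Scheme.ord_mul hg (pow_ne_zero _ hh), ord_inv _ hφ0, hD x hx,
      RefCh18.ord_pow_nat h hh hx] at h0
    exact mul_left_cancel₀ (show (s : ℤ) ≠ 0 by omega) (by linarith)
  have hho : (h : X.presheaf.stalk (genericPoint X)) • o ≠ 0 := fun h0 => hh
    ((smul_bijective_of_ne_zero hOη ho).1 (h0.trans (zero_smul _ o).symm))
  obtain ⟨iso⟩ := iso_of_sord hN hFr hO hv hho fun x hx => by
    rw [sord_smul (framed_of_isRef1 hN hO (Or.inr hx)) hx ho h hh, hox x hx, add_zero, hz x hx]
  refine Subtype.ext ?_
  rw [RefFun.Law.one_val, ← hF]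
  exact (PicGrp.cl_eq_cl_iff _ _).2 ⟨iso⟩

end Groth.Agent.ClTors18
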