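import Groth.Agent.ClTors18.Local
import Groth.Agent.ClTors18.Extend
import Groth.Agent.Pure83.Compl
import Groth.Agent.FEt83.PureDescent
import Groth.Agent.CAlg1.SerreNormal

/-! A function that is locally an `s`-th power up to units is one globally, under purity. -/

set_option autoImplicit false
set_option linter.style.haveILetI false
set_option maxHeartbeats 800000
set_option backward.isDefEq.respectTransparency.types false

noncomputable section

universe u

open CategoryTheory Limits AlgebraicGeometry TopologicalSpace Opposite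

namespace Groth.Agent.ClTors18

/-- Purity of the completion gives purity. -/
theorem purityHolds_of_completion (B : Type u) [CommRing B] [IsLocalRing B] [IsNoetherianRing B]
    (hd : (2 : ℕ∞) ≤ LocCoh.depth B B)
    [IsLocalRing (AdicCompletion (IsLocalRing.maximalIdeal B) B)]
    (h : SGA2.IsPurePair (Spec (CommRingCat.of (AdicCompletion (IsLocalRing.maximalIdeal B) B)))
      (FEt.puncturedSpec (AdicCompletion (IsLocalRing.maximalIdeal B) B))) : FEt.PurityHolds B := by
  let Bh := AdicCompletion (IsLocalRing.maximalIdeal B) B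
  haveI := Pure83.faithfullyFlat_completion (A := B)
  have hloc : IsLocalHom (algebraMap B Bh) :=
    ((IsLocalRing.local_hom_TFAE _).out 2 0 rfl rfl).mp AdicCompletion.maximalIdeal_eq_map.symm.le
  let f : Spec (CommRingCat.of Bh) ⟶ Spec (CommRingCat.of B) :=
    Spec.map (CommRingCat.ofHom (algebraMap B Bh))
  haveI : Flat f := (HasRingHomProperty.Spec_iff (P := @Flat)).mpr
    (RingHom.flat_algebraMap_iff.mpr inferInstance)
  haveI : Surjective f := ⟨PrimeSpectrum.comap_surjective_of_faithfullyFlat⟩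
  have hpre : f ⁻¹ᵁ FEt.puncturedSpec B = FEt.puncturedSpec Bh := by
    refine Opens.ext (Set.ext fun (q : PrimeSpectrum Bh) => ?_)
    show (PrimeSpectrum.comap (algebraMap B Bh) q) ∈ FEt.puncturedSpec B ↔ q ∈ FEt.puncturedSpec Bh
    refine (Pure83.mem_puncturedSpec_iff _).trans
      (Iff.trans ?_ (Pure83.mem_puncturedSpec_iff _).symm)
    refine not_congr ⟨fun e => ?_, fun e => ?_⟩
    · refine ((IsLocalRing.maximalIdeal.isMaximal Bh).eq_of_le q.isPrime.ne_top ?_).symm
      rw [AdicCompletion.maximalIdeal_eq_map, Ideal.map_le_iff_le_comap]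
      exact e.ge
    · show q.asIdeal.comap (algebraMap B Bh) = _
      rw [e]
      exact ((IsLocalRing.local_hom_TFAE (algebraMap B Bh)).out 0 4 rfl rfl).mp hloc
  have hp : SGA2.IsPurePair (Spec (CommRingCat.of B)) (FEt.puncturedSpec B) :=
    FEt83.isPurePair_of_flat _ (fun x hx => by
      rw [show x = IsLocalRing.closedPoint B from not_not.1 hx, FEt83.depth_stalk_Spec]
      exact hd.trans (CAlg1.depth_eq_of_ringEquiv
        (IsLocalization.atUnits B (IsLocalRing.closedPoint B).asIdeal.primeCompl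
          (S := Localization.AtPrime (IsLocalRing.closedPoint B).asIdeal) (fun x hx =>
          not_not.1 fun h => hx h)).toRingEquiv).le) f (hpre.symm ▸ h)
  have := FEt83.isEquivalence_of_isPurePair hp (Spec (CommRingCat.of B)) (𝟙 _)
  exact inferInstanceAs
    (FEt.restrict ((𝟙 (Spec (CommRingCat.of B))) ⁻¹ᵁ FEt.puncturedSpec B).ι).EssSurj

variable {K : Type u} [Field K]

/-- `z` is a unit at `P`. -/
def UnitAt {B : Type u} [CommRing B] [Algebra B K] (P : Ideal B) (z : K) : Prop :=
  ∃ a b : B, a ∉ P ∧ b ∉ P ∧ z * algebraMap B K b = algebraMap B K a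

/-- The step at the closed point. -/
theorem exists_root_step {B : Type u} [CommRing B] [IsDomain B] [IsLocalRing B] [IsNoetherianRing B]
    [IsIntegrallyClosed B] [Algebra B K] [IsFractionRing B K]
    (hdim : (2 : WithBot ℕ∞) ≤ ringKrullDim B) (hpure : FEt.PurityHolds B) {s : ℕ} (hs : 1 < s)
    (hsu : IsUnit (s : B)) (g : K) (hg : g ≠ 0)
    (hloc : ∀ q : Ideal B, q.IsPrime → q ≠ IsLocalRing.maximalIdeal B →
      ∃ h : K, h ≠ 0 ∧ UnitAt q (g * h ^ s)) :
    ∃ h : K, h ≠ 0 ∧ UnitAt (IsLocalRing.maximalIdeal B) (g * h ^ s) := by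
  classical
  have hs0 : 0 < s := by omega
  have hinj := IsFractionRing.injective B K
  have hdepth := CAlg1.two_le_depth_of_isIntegrallyClosed B hdim
  have hq1 : ∀ q : Ideal B, q.IsPrime → q.height = 1 → q ≠ IsLocalRing.maximalIdeal B := by
    rintro q _ hq rfl
    rw [← IsLocalRing.maximalIdeal_height_eq_ringKrullDim (R := B), hq] at hdim
    exact absurd hdim (by decide)
  obtain ⟨S₀, hS₀⟩ := IsNoetherian.noetherian (IsLocalRing.maximalIdeal B)
  let S := S₀.filter (· ≠ 0)
  let n := S.card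
  let c : Fin n → B := fun i => (S.equivFin.symm i : B)
  have hc0 : ∀ i, c i ≠ 0 := fun i => (Finset.mem_filter.1 (S.equivFin.symm i).2).2
  have hcm : ∀ i, c i ∈ IsLocalRing.maximalIdeal B := fun i =>
    hS₀.le (Submodule.subset_span (Finset.mem_filter.1 (S.equivFin.symm i).2).1)
  have hcov : ∀ q : Ideal B, q.IsPrime → q ≠ IsLocalRing.maximalIdeal B → ∃ i, c i ∉ q := by
    intro q hq hne
    by_contra hcon
    push Not at hcon
    refine hne ((IsLocalRing.maximalIdeal.isMaximal B).eq_of_le hq.ne_top ?_).symm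
    rw [← hS₀]
    refine Submodule.span_le.2 fun x hx => ?_
    by_cases hx0 : x = 0
    · rw [hx0]
      exact zero_mem _
    · obtain ⟨i, hi⟩ := S.equivFin.symm.surjective ⟨x, Finset.mem_filter.2 ⟨hx, hx0⟩⟩
      have := hcon i
      rwa [show c i = x from congrArg Subtype.val hi] at this
  have hn : 0 < n := by
    obtain ⟨i, -⟩ := hcov ⊥ Ideal.isPrime_bot (fun h => by
      rw [← IsLocalRing.maximalIdeal_height_eq_ringKrullDim (R := B), ← h, Ideal.height_bot] at hdim
      exact absurd hdim (by decide))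
    exact i.pos
  let C := Cov (B := B) hs0 g
  haveI : Module.Finite B C := finite_cov hs0 g hg
  have het : ∀ q : PrimeSpectrum C, PrimeSpectrum.comap (algebraMap B C) q ∈ FEt.puncturedSpec B →
      Algebra.IsEtaleAt B q.asIdeal := by
    intro q hq
    let p := PrimeSpectrum.comap (algebraMap B C) q
    obtain ⟨h, hh, a, b, ha, hb, hab⟩ := hloc p.asIdeal p.isPrime ((Pure83.mem_puncturedSpec_iff _).1 hq)
    have hab0 : a * b ∉ p.asIdeal := fun hmem => (p.isPrime.mem_or_mem hmem).elim ha hb
    have hne : a * b ≠ 0 := fun h0 => hab0 (h0 ▸ zero_mem _)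
    have haK : algebraMap B K a ≠ 0 := (map_ne_zero_iff _ hinj).2 fun h0 => ha (h0 ▸ zero_mem _)
    have hbK : algebraMap B K b ≠ 0 := (map_ne_zero_iff _ hinj).2 fun h0 => hb (h0 ▸ zero_mem _)
    have hz : g * h ^ s ≠ 0 := mul_ne_zero hg (pow_ne_zero _ hh)
    have hE := etale_away hs0 g hg hsu hne (h := h) ⟨1, a * a, ?_⟩ ⟨1, b * b, ?_⟩ hh
    · haveI : Algebra.FinitePresentation B C :=
        Algebra.FinitePresentation.of_finiteType.mp inferInstance
      exact Algebra.basicOpen_subset_etaleLocus_iff_etale.mpr hE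
        (show algebraMap B C (a * b) ∉ q.asIdeal from hab0)
    · rw [map_mul, pow_one, map_mul, ← hab]
      ring
    · rw [map_mul, pow_one, map_mul, ← hab]
      field_simp
  have hflat : Module.Flat B C := flat_of_purity hdepth hpure C
    (fun r x hr hx => Subtype.ext (smul_injective_amb g hr (congrArg Subtype.val hx)))
    het c hcm hc0 (fun k a ha => by
      let i0 : Fin n := ⟨0, hn⟩
      have hck : algebraMap B K (c i0 ^ k) ≠ 0 :=
        (map_ne_zero_iff _ hinj).2 (pow_ne_zero _ (hc0 _))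
      let z : Amb g s := (algebraMap B K (c i0 ^ k))⁻¹ • (a i0).1
      have hl : ∀ l, c l ^ k • z = (a l).1 := fun l => by
        have h1 : c l ^ k • (a i0).1 = c i0 ^ k • (a l).1 := congrArg Subtype.val (ha i0 l)
        rw [smul_comm, h1, ← algebraMap_smul K (c i0 ^ k) (a l).1, smul_smul, inv_mul_cancel₀ hck,
          one_smul]
      have hzC : z ∈ C := cov_saturated hs0 g (Set.range fun l => c l ^ k)
        (fun q hq hqh => by
          obtain ⟨i, hi⟩ := hcov q hq (hq1 q hq hqh)
          exact ⟨_, ⟨i, rfl⟩, fun hm => hi (hq.mem_of_pow_mem k hm)⟩)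
        (by rintro _ ⟨l, rfl⟩; rw [hl l]; exact (a l).2)
      exact ⟨⟨z, hzC⟩, fun l => Subtype.ext (hl l)⟩) hn
  haveI : Module.Free B C := Module.free_of_flat_of_isLocalRing
  haveI : Module.Projective B C := Module.Projective.of_free
  obtain ⟨ι, π, hιπ⟩ := exists_degree_one (B := B) hs0 g hs
  haveI : Module.Projective B (J (B := B) hs0 g 1) := Module.Projective.of_split ι π hιπ
  haveI : Module.Finite B (J (B := B) hs0 g 1) := finite_J hs0 g hg 1
  haveI : Module.Free B (J (B := B) hs0 g 1) := Module.free_of_flat_of_isLocalRing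
  let bJ := Module.Free.chooseBasis B (J (B := B) hs0 g 1)
  have hJne : ∃ a : J (B := B) hs0 g 1, a ≠ 0 := by
    obtain ⟨p, d, hd, hpd⟩ := IsFractionRing.div_surjective B g
    have hdK : algebraMap B K d ≠ 0 := (map_ne_zero_iff _ hinj).2 (nonZeroDivisors.ne_zero hd)
    refine ⟨⟨algebraMap B K d, d ^ (s - 1) * p, ?_⟩, fun h => hdK (congrArg Subtype.val h)⟩
    obtain ⟨e, he⟩ : ∃ e, s = e + 1 := ⟨s - 1, by omega⟩
    rw [pow_one, he, Nat.add_sub_cancel, map_mul, map_pow, ← hpd]
    field_simp
    ring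
  obtain ⟨a₀, ha₀⟩ := hJne
  have hsub : ∀ i l : Module.Free.ChooseBasisIndex B (J (B := B) hs0 g 1), i = l := by
    intro i l
    by_contra hil
    obtain ⟨p, q, hq, hpq⟩ := IsFractionRing.div_surjective B ((bJ i : K) / (bJ l : K))
    have hl0 : (bJ l : K) ≠ 0 := fun h => bJ.ne_zero l (Subtype.ext h)
    have hqK : algebraMap B K q ≠ 0 := (map_ne_zero_iff _ hinj).2 (nonZeroDivisors.ne_zero hq)
    have h1 : q • bJ i = p • bJ l := Subtype.ext (by
      show q • (bJ i : K) = p • (bJ l : K)
      rw [Algebra.smul_def, Algebra.smul_def]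
      field_simp at hpq
      linear_combination -hpq)
    have h2 := congrArg (fun x => bJ.repr x i) h1
    simp [Ne.symm hil] at h2
    exact nonZeroDivisors.ne_zero hq h2
  obtain ⟨i₁, hi₁⟩ : ∃ i, bJ.repr a₀ i ≠ 0 := by
    by_contra hcon
    push Not at hcon
    exact ha₀ (bJ.repr.map_eq_zero_iff.1 (Finsupp.ext hcon))
  let h₀ : K := (bJ i₁ : K)
  have hh₀ : h₀ ≠ 0 := fun h => bJ.ne_zero i₁ (Subtype.ext h)
  have hgen : ∀ x : J (B := B) hs0 g 1, ∃ r : B, (x : K) = algebraMap B K r * h₀ := fun x => by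
    refine ⟨bJ.repr x i₁, ?_⟩
    have h3 := bJ.linearCombination_repr x
    rw [Finsupp.linearCombination_apply, Finsupp.sum_eq_single i₁ (fun l _ hl => absurd (hsub l i₁) hl)
      (fun _ => zero_smul _ _)] at h3
    exact (congrArg Subtype.val h3).symm.trans (Algebra.smul_def _ _)
  obtain ⟨e, he⟩ := (bJ i₁).2
  rw [pow_one] at he
  refine ⟨h₀, hh₀, e, 1, fun hem => ?_, fun h1 => (IsLocalRing.maximalIdeal.isMaximal B).ne_top
    ((Ideal.eq_top_iff_one _).2 h1), by rw [map_one, mul_one, he, mul_comm]⟩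
  have he0 : e ≠ 0 := fun h0 => by
    rw [h0, map_zero] at he
    exact mul_ne_zero (pow_ne_zero s hh₀) hg he.symm
  have hdvd : e ∣ 1 := by
    refine CAlg4.ReducedCurve.dvd_of_forall_height_one e 1 he0 fun q _ hqh heq => ?_
    exfalso
    obtain ⟨h, hh, α, β, hα, hβ, hαβ⟩ := hloc q inferInstance (hq1 q inferInstance hqh)
    obtain ⟨t, ht⟩ : ∃ t, s = t + 1 := ⟨s - 1, by omega⟩
    have hmem : algebraMap B K β * h ∈ J (B := B) hs0 g 1 := ⟨β ^ t * α, by
      rw [map_mul, map_pow, ← hαβ, ht, pow_one]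
      ring⟩
    obtain ⟨r, hr⟩ := hgen ⟨_, hmem⟩
    have key : β ^ t * α = r ^ s * e := hinj (by
      rw [map_mul, map_mul, map_pow, map_pow, he]
      calc algebraMap B K β ^ t * algebraMap B K α
          = (algebraMap B K β * h) ^ s * g := by rw [← hαβ, ht]; ring
        _ = algebraMap B K r ^ s * (h₀ ^ s * g) := by rw [show algebraMap B K β * h = _ from hr]; ring)
    exact ((inferInstance : q.IsPrime).mem_or_mem
      (key ▸ q.mul_mem_left (r ^ s) heq : β ^ t * α ∈ q)).elim
      (fun h' => hβ ((inferInstance : q.IsPrime).mem_of_pow_mem t h')) hα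
  exact hem (isUnit_of_dvd_one hdvd)

end Groth.Agent.ClTors18
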